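import Groth.Agent.Lib.Dlz27.Faltings
import Groth.Agent.Lib.Bootstrap27.CplKillSup
import Groth.Agent.S1711

/-!
# Local cohomology killed by a power of an element
-/

set_option autoImplicit false
universe u

open CategoryTheory

attribute [local instance] HasDerivedCategory.standard

noncomputable section

namespace Groth.Agent.QAffFormalH7

variable {A : Type u} [CommRing A] [IsNoetherianRing A]

/-- An element killing `H^i_{V(I)}` kills `H^i_I`. -/
theorem smul_H_eq_zero_of_HT (I : Ideal A) (M : Type u) [AddCommGroup M] [Module A M] (i : ℕ) (a : A)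
    (h : ∀ x : Dual2.HT (Dlz27.VI I) i M, a • x = 0) (x : LocCoh.H I i M) : a • x = 0 := by
  have hge : (Dual.inD A M).IsGE 0 := inferInstanceAs
    (((DerivedCategory.singleFunctor (ModuleCat.{u} A) 0).obj (ModuleCat.of A M)).IsGE 0)
  obtain ⟨W, -, -, hW, ⟨e⟩⟩ := HTFin27.exists_res_bounded (Dual.inD A M) 0 ((DMod.isGE_iff _ 0).1 hge)
  have := hW
  exact (Dlz27.smul_eq_zero_iff_cycles W e (i : ℤ) (Dlz27.isColimK_κI I i (ModuleCat.of A M)) a).2
    ((Dlz27.smul_eq_zero_iff_cycles W e (i : ℤ) (HTFin27.isColimK_κT (Dlz27.VI I) i (ModuleCat.of A M)) a).1 h) x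

/-- Depth plus dimension above `s` gives a power of `f` killing `H^i` for `i ≤ s`. -/
theorem exists_pow_kill (hω : ∃ ω : Dual.D A, Dual.IsDualizing A ω) (𝔞 : Ideal A) (f : A) (hf : f ∈ 𝔞) (s : ℕ)
    (M : Type u) [AddCommGroup M] [Module A M] [Module.Finite A M]
    (h : ∀ p q : PrimeSpectrum A, f ∉ p.asIdeal → 𝔞 ≤ q.asIdeal → p ≤ q →
      (s : WithBot ℕ∞) < ((LocCoh.depth (Localization.AtPrime p.asIdeal) (LocalizedModule p.asIdeal.primeCompl M) : ℕ∞) : WithBot ℕ∞) +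
        Formal2.dimBetween A p.asIdeal q.asIdeal) :
    ∃ n : ℕ, ∀ i ≤ s, ∀ x : LocCoh.H 𝔞 i M, f ^ n • x = 0 := by
  let T : Set (PrimeSpectrum A) := Dlz27.VI 𝔞
  let T' : Set (PrimeSpectrum A) := Dlz27.VI (Ideal.span {f})
  have hup : ∀ J : Ideal A, StableUnderSpecialization (Dlz27.VI J) := fun J =>
    (PrimeSpectrum.isClosed_zeroLocus _).stableUnderSpecialization
  have hTT : T ⊆ T' := PrimeSpectrum.zeroLocus_anti_mono ((Ideal.span_singleton_le_iff_mem 𝔞).2 hf)
  obtain ⟨J, hJ, hkill⟩ := (Groth.Agent.S1711.result A hω T T' (hup _) (hup _) hTT s M).2 fun p q hp hq hpq => by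
    rw [Bootstrap27.krullDim_Icc_eq_dimBetween]
    exact h p q (fun hfp => hp ((PrimeSpectrum.mem_zeroLocus _ _).2 ((Ideal.span_singleton_le_iff_mem _).2 hfp)))
      ((PrimeSpectrum.mem_zeroLocus _ _).1 hq) hpq
  obtain ⟨n, hn⟩ := (PrimeSpectrum.zeroLocus_subset_zeroLocus_iff J (Ideal.span {f})).1 hJ
    (Ideal.mem_span_singleton_self f)
  exact ⟨n, fun i hi x => smul_H_eq_zero_of_HT 𝔞 M i _ (hkill i hi _ hn) x⟩

end Groth.Agent.QAffFormalH7
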