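import Groth.Agent.Lib.FormalCohH7.Main
import Groth.Agent.Lib.QAffFormalH7.Punct

/-!
# Functions on a punctured affine scheme, torsion local cohomology
-/

set_option autoImplicit false
set_option linter.style.haveILetI false
set_option backward.isDefEq.respectTransparency false
set_option backward.isDefEq.respectTransparency.types false

universe u

open CategoryTheory CategoryTheory.Limits AlgebraicGeometry Opposite

noncomputable section

namespace Groth.Agent.QAffFormalH7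

open Groth.Agent Groth.Agent.GExistH7 Groth.Agent.FormalH7 Groth.Agent.NFlatFormalH7
open Groth.Agent.ComplFormalH7 (PU tR isQuot_iso_comp)
open Groth.Agent.LocCohSheafLib

variable {A : Type u} [CommRing A]

/-- Bijectivity of the formal comparison in terms of sections. -/
theorem gBijective_sec {f : A} {V W : (Spec (CommRingCat.of A)).Opens} (hVW : W = V)
    (h : FormalCohH7.GBijective f A 0 V) :
    (∀ x : Sec A W, (∀ n, secMap (FormalCohH7.prj f A n) W x = 0) → x = 0) ∧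
    ∀ y : ∀ n, Sec (Formal2.quotPow A (Ideal.span {f}) A n) W,
      (∀ n, secMap (Formal2.quotPowTrans A (Ideal.span {f}) A n) W (y (n + 1)) = y n) →
        ∃ x, ∀ n, secMap (FormalCohH7.prj f A n) W x = y n := by
  subst hVW
  refine ⟨fun x hx => ?_, fun y hy => ?_⟩
  · have h0 := h.1 ((FormalCohH7.g0 A W).symm x) fun n => (FormalCohH7.g0 _ W).injective (by
      rw [FormalCohH7.g0_gmap, AddEquiv.apply_symm_apply, hx n, map_zero])
    rw [← (FormalCohH7.g0 A W).apply_symm_apply x, h0, map_zero]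
  · obtain ⟨x, hx⟩ := h.2 (fun n => (FormalCohH7.g0 _ W).symm (y n)) fun n => (FormalCohH7.g0 _ W).injective (by
      rw [FormalCohH7.g0_gmap, AddEquiv.apply_symm_apply, AddEquiv.apply_symm_apply, hy n])
    refine ⟨FormalCohH7.g0 A W x, fun n => ?_⟩
    rw [← FormalCohH7.g0_gmap, hx n, AddEquiv.apply_symm_apply]

variable [IsNoetherianRing A]

/-- Functions on the punctured scheme are the limit of functions on the thickenings. -/
theorem bijective_toHHlim_of_gBijective (𝔞 : Ideal A) (f : A)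
    (h : FormalCohH7.GBijective f A 0 (LocCoh.puncturedOpen A 𝔞)) :
    Function.Bijective (Formal.toHHlim (Ideal.span {f}) (Coh.structureModule (PU 𝔞)) 0) := by
  let J : Ideal A := Ideal.span {f}
  let O := Coh.structureModule (PU 𝔞)
  let L : ModuleCat.{u} (CommRingCat.of A) := ModuleCat.of A A
  let π : ∀ n : ℕ, L ⟶ ModuleCat.of A (Formal2.quotPow A J A n) := fun n =>
    ModuleCat.ofHom (Formal2.quotPowπ A J A n)
  have hq : ∀ n, IsQuot (J ^ (n + 1)) ((tR 𝔞).map (π n)) := fun n =>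
    isQuot_tR _ L _ (π n) (Submodule.mkQ_surjective _) (Submodule.ker_mkQ _)
  choose e he using fun n =>
    (isQuot_iso_comp (isQuot_modPowπ J (n + 1) O) (tRSelf (I := 𝔞))).exists_iso (hq n)
  have het : ∀ n, (e (n + 1)).hom ≫ (tR 𝔞).map (ModuleCat.ofHom (Formal2.quotPowTrans A J A n)) =
      Formal.modPowTrans J (n + 1) O ≫ (e n).hom := fun n => by
    refine (isQuot_iso_comp (isQuot_modPowπ J (n + 1 + 1) O) (tRSelf (I := 𝔞))).hom_ext ?_
    rw [← Category.assoc, he (n + 1), ← Functor.map_comp, Category.assoc,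
      ← Category.assoc (Formal.modPowπ J (n + 1 + 1) O), Formal.modPowπ_trans, ← Category.assoc, he n]
    rfl
  have hW : (LocCoh.puncturedOpen A 𝔞).ι ''ᵁ ⊤ = LocCoh.puncturedOpen A 𝔞 := Scheme.Opens.ι_image_top _
  obtain ⟨h1, h2⟩ := gBijective_sec hW h
  have hkey : ∀ n (x : Γ((tR 𝔞).obj L, ⊤)),
      (e n).hom.app ⊤ ((Formal.modPowπ J (n + 1) O).app ⊤ ((tRSelf (I := 𝔞)).hom.app ⊤ x)) =
        ((tR 𝔞).map (π n)).app ⊤ x := fun n x => by
    rw [← he n]
    rfl
  haveI := PunctFree27.quasiCompact_puncturedOpen 𝔞 (IsNoetherian.noetherian 𝔞)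
  haveI : IsLocallyNoetherian (PU 𝔞) := LocallyOfFiniteType.isLocallyNoetherian (LocCoh.puncturedOpen A 𝔞).ι
  haveI : CompactSpace (PU 𝔞) := QuasiCompact.compactSpace_of_compactSpace (LocCoh.puncturedOpen A 𝔞).ι
  haveI : AlgebraicGeometry.IsNoetherian (PU 𝔞) := ⟨⟩
  have hinv : ∀ {M N : (PU 𝔞).Modules} (i : M ≅ N) (x : Γ(N, ⊤)), i.hom.app ⊤ (i.inv.app ⊤ x) = x := fun i x => by
    have := congrArg (fun g => g.app ⊤ x) i.inv_hom_id
    exact this
  have hinv' : ∀ {M N : (PU 𝔞).Modules} (i : M ≅ N) (x : Γ(M, ⊤)), i.inv.app ⊤ (i.hom.app ⊤ x) = x := fun i x => by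
    have := congrArg (fun g => g.app ⊤ x) i.hom_inv_id
    exact this
  rw [bijective_iff J O]
  refine ⟨fun x hx => ?_, fun y hy => ?_⟩
  · have h0 := h1 ((tRSelf (I := 𝔞)).inv.app ⊤ x) fun n => by
      show ((tR 𝔞).map (π n)).app ⊤ ((tRSelf (I := 𝔞)).inv.app ⊤ x) = 0
      rw [← hkey n, hinv, hx n, map_zero]
    rw [← hinv tRSelf x]
    exact (congrArg ((tRSelf (I := 𝔞)).hom.app ⊤) h0).trans (map_zero _)
  · obtain ⟨x, hx⟩ := h2 (fun n => (e n).hom.app ⊤ (y n)) fun n => by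
      show ((tR 𝔞).map (ModuleCat.ofHom (Formal2.quotPowTrans A J A n))).app ⊤ ((e (n + 1)).hom.app ⊤ (y (n + 1))) =
        (e n).hom.app ⊤ (y n)
      rw [← hy n]
      exact congrArg (fun g => g.app ⊤ (y (n + 1))) (het n)
    refine ⟨(tRSelf (I := 𝔞)).hom.app ⊤ x, fun n => ?_⟩
    rw [← hinv' (e n) (y n), ← hinv' (e n) ((Formal.modPowπ J (n + 1) O).app ⊤ _), hkey n]
    exact congrArg ((e n).inv.app ⊤) (hx n)

/-- Formal sections of locally free modules when local cohomology is torsion. -/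
theorem bijective_toHHlim_of_torsion (𝔞 : Ideal A) (f : A) [IsAdicComplete (Ideal.span {f}) A]
    (h₁ : ∃ n : ℕ, ∀ x : LocCoh.H 𝔞 1 A, f ^ n • x = 0) (h₂ : ∃ n : ℕ, ∀ x : LocCoh.H 𝔞 2 A, f ^ n • x = 0)
    (F : (↑(LocCoh.puncturedOpen A 𝔞) : Scheme.{u}).Modules) (hF : FlatMod.IsFinLocFree F) :
    Function.Bijective (Formal.toHHlim (Ideal.span {f}) F 0) := by
  obtain ⟨c, hc⟩ := FormalCohH7.exists_isTorsBound f A
  obtain ⟨N₁, hN₁⟩ := h₁
  obtain ⟨N₂, hN₂⟩ := h₂
  haveI := PunctFree27.quasiCompact_puncturedOpen 𝔞 (IsNoetherian.noetherian 𝔞)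
  haveI : IsLocallyNoetherian (PU 𝔞) := LocallyOfFiniteType.isLocallyNoetherian (LocCoh.puncturedOpen A 𝔞).ι
  haveI : CompactSpace (PU 𝔞) := QuasiCompact.compactSpace_of_compactSpace (LocCoh.puncturedOpen A 𝔞).ι
  haveI : AlgebraicGeometry.IsNoetherian (PU 𝔞) := ⟨⟩
  haveI : (PU 𝔞).IsQuasiAffine := Scheme.IsQuasiAffine.of_isImmersion (LocCoh.puncturedOpen A 𝔞).ι
  exact bijective_toHHlim_of_locFree _ (bijective_toHHlim_of_gBijective 𝔞 f
    (FormalCohH7.gBijective_zero 𝔞 hc N₁ N₂ hN₁ hN₂)) hF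

end Groth.Agent.QAffFormalH7
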